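import Cfsg.Agent.Lib.Fusion.Criterion
import Cfsg.Agent.Lib.FusionNormal.Generation

/-
The fusion system on `Q` defined by a group of automorphisms `K` containing the inner ones.

Main results (namespace `Cfsg.Agent.FusionSparse`):
* `autSys`, `isMap_autSys`, `isSaturated_autSys`, `autSys_isSubsystemOf`;
* `isSylowIn_inn_sup_zpowers`; `exists_autSys_prime` : a `q`-automorphism of the system on any subgroup gives a
  saturated non-inner subsystem.
-/

set_option autoImplicit false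

namespace Cfsg.Agent.FusionSparse

open Cfsg Cfsg.FusionSystem Cfsg.Agent.Fusion

variable {Ω : Type*} [Group Ω] {S Q : Subgroup Ω}

theorem autFn_mul_comp (a b : MulAut Q) {x : Ω} (hx : x ∈ Q) :
    autFn (a * b) x = autFn a (autFn b x) := by
  rw [autFn_apply _ hx, autFn_apply a (autFn_mem b hx)]
  exact congrArg (fun y : Q => ((a y : Q) : Ω)) (Subtype.ext (autFn_apply b hx).symm)

theorem autFn_one {x : Ω} (hx : x ∈ Q) : autFn (1 : MulAut Q) x = x := by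
  rw [autFn_apply _ hx]; rfl

/-- The system on `Q` of the restrictions of the elements of `K`. -/
noncomputable def autSys (Q : Subgroup Ω) (K : Subgroup (MulAut Q)) (hK : Cfsg.Inn Q ≤ K) : FusionSystem Q where
  Hom P := {φ | P ≤ Q ∧ ∃ α ∈ K, ∀ x : P, φ x = autFn α (x : Ω)}
  le_of_mem := fun ⟨hP, α, _, e⟩ => ⟨hP, fun x => e x ▸ autFn_mem α (hP x.2)⟩
  injective_of_mem := by
    rintro P φ ⟨hP, α, -, e⟩ a b hab
    rw [e, e, autFn_apply α (hP a.2), autFn_apply α (hP b.2)] at hab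
    exact Subtype.ext (congrArg (fun y : Q => (y : Ω)) (α.injective (Subtype.ext hab) :))
  conj_mem := by
    intro P g hP hg
    exact ⟨hP, MulAut.conj (⟨g, hg⟩ : Q), hK ⟨_, rfl⟩, fun x =>
      (autFn_apply (MulAut.conj (⟨g, hg⟩ : Q)) (hP x.2)).symm⟩
  comp_mem := by
    rintro P R φ ψ ⟨hP, a, ha, ea⟩ ⟨-, b, hb, eb⟩ h
    refine ⟨hP, b * a, mul_mem hb ha, fun x => ?_⟩
    rw [autFn_mul_comp b a (hP x.2), ← ea x]
    exact eb _
  inv_mem := by
    rintro P φ ⟨hP, a, ha, ea⟩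
    have hle : φ.range ≤ Q := by
      rintro _ ⟨x, rfl⟩
      exact ea x ▸ autFn_mem a (hP x.2)
    let ψ : φ.range →* Ω := (Q.subtype.comp (a⁻¹ : MulAut Q).toMonoidHom).comp (Subgroup.inclusion hle)
    have hψ : ∀ y : φ.range, ψ y = autFn a⁻¹ (y : Ω) := fun y => (autFn_apply _ (hle y.2)).symm
    refine ⟨ψ, ⟨hle, a⁻¹, inv_mem ha, hψ⟩, fun x => ?_⟩
    rw [hψ]
    show autFn a⁻¹ (φ x) = x
    rw [ea, ← autFn_mul_comp _ _ (hP x.2), inv_mul_cancel, autFn_one (hP x.2)]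

variable {K : Subgroup (MulAut Q)} {hK : Cfsg.Inn Q ≤ K}

theorem isMap_autSys {P : Subgroup Ω} {f : Ω → Ω} :
    IsMap (autSys Q K hK) P f ↔ P ≤ Q ∧ ∃ α ∈ K, ∀ x ∈ P, f x = autFn α x := by
  constructor
  · rintro ⟨φ, ⟨hP, α, hα, e⟩, h⟩
    exact ⟨hP, α, hα, fun x hx => (h x hx).symm.trans (e ⟨x, hx⟩)⟩
  · rintro ⟨hP, α, hα, e⟩
    let φ : P →* Ω := (Q.subtype.comp α.toMonoidHom).comp (Subgroup.inclusion hP)
    have hφ : ∀ x : P, φ x = autFn α (x : Ω) := fun x => (autFn_apply _ (hP x.2)).symm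
    exact ⟨φ, ⟨hP, α, hα, hφ⟩, fun x hx => (hφ ⟨x, hx⟩).trans (e x hx).symm⟩

theorem autGroup_autSys : (autSys Q K hK).autGroup Q = K := by
  ext α
  rw [mem_autGroup_iff le_rfl, isMap_autSys]
  constructor
  · rintro ⟨-, β, hβ, e⟩
    have : α = β := MulEquiv.ext fun x => Subtype.ext <| by
      rw [← autFn_apply α x.2, ← autFn_apply β x.2]; exact e x x.2
    exact this ▸ hβ
  · exact fun h => ⟨le_rfl, α, h, fun _ _ => rfl⟩

theorem autInducedBy_self (Q : Subgroup Ω) : autInducedBy Q Q = Cfsg.Inn Q := by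
  refine le_antisymm (fun α hα => ?_) (inn_le_autInducedBy le_rfl)
  obtain ⟨g, hg, e⟩ := mem_autInducedBy_iff.1 hα
  exact ⟨⟨g, hg⟩, MulEquiv.ext fun x => Subtype.ext (e x).symm⟩

theorem isSaturated_autSys [Finite Q] {p : ℕ} [Fact p.Prime] (hQ : IsPGroup p Q)
    (hsyl : IsSylowIn p (Cfsg.Inn Q) K) : (autSys Q K hK).IsSaturated p := by
  refine isSaturated_of_criterion hQ (isFullyAutomized_iff.2 ⟨le_rfl, ?_⟩) fun N hN =>
    isReceptive_iff.2 ⟨hN.1, fun P f hf => ?_⟩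
  · rwa [autInducedBy_self, autGroup_autSys]
  · obtain ⟨-, α, hα, e⟩ := isMap_autSys.1 hf.1
    refine ⟨autFn α, isMap_autSys.2 ⟨(Nx_le_normalizerIn _ _ _).trans inf_le_left, α, hα, fun _ _ => rfl⟩,
      fun x hx => (e x hx).symm⟩

theorem autSys_isSubsystemOf {F : FusionSystem S} (hQ : Q ≤ S) (hle : K ≤ F.autGroup Q) :
    (autSys Q K hK).IsSubsystemOf F := by
  intro P φ hφ
  obtain ⟨hP, α, hα, e⟩ := hφ
  exact mem_of_isMap (((mem_autGroup_iff hQ).1 (hle hα)).mono hP) e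

theorem isPGroup_inn {p : ℕ} (hQ : IsPGroup p Q) : IsPGroup p (Cfsg.Inn Q) :=
  hQ.of_surjective (MulAut.conj : Q →* MulAut Q).rangeRestrict (MonoidHom.rangeRestrict_surjective _)

theorem isSylowIn_inn_sup_zpowers {p : ℕ} (hQ : IsPGroup p Q) (β : MulAut Q)
    (hβ : (orderOf β).Coprime p) : IsSylowIn p (Cfsg.Inn Q) (Cfsg.Inn Q ⊔ Subgroup.zpowers β) := by
  refine ⟨le_sup_left, isPGroup_inn hQ, fun C hIC hCK hC => le_antisymm (fun c hc => ?_) hIC⟩
  have : (Cfsg.Inn Q).Normal := Cfsg.innNormal Q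
  obtain ⟨i, hi, b, hb, rfl⟩ := Subgroup.mem_sup_of_normal_left.1 (hCK hc)
  have hbC : b ∈ C := by
    simpa using mul_mem (inv_mem (hIC hi)) hc
  obtain ⟨k, hk⟩ := hC ⟨b, hbC⟩
  have h1 : orderOf b ∣ p ^ k := orderOf_dvd_of_pow_eq_one (congrArg Subtype.val hk)
  obtain ⟨m, rfl⟩ := hb
  have h2 : orderOf (β ^ m) = 1 :=
    Nat.eq_one_of_dvd_coprimes ((hβ.pow_right k).coprime_dvd_left (orderOf_dvd_of_pow_eq_one (by
      rw [← zpow_natCast, ← zpow_mul, mul_comm, zpow_mul, zpow_natCast, pow_orderOf_eq_one, one_zpow]))) dvd_rfl h1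
  show i * β ^ m ∈ Cfsg.Inn Q
  rw [orderOf_eq_one_iff.1 h2, mul_one]
  exact hi

theorem not_mem_inn {p : ℕ} (hQ : IsPGroup p Q) {β : MulAut Q} (hβ : (orderOf β).Coprime p) (h1 : β ≠ 1) :
    β ∉ Cfsg.Inn Q := by
  intro h
  obtain ⟨k, hk⟩ := isPGroup_inn hQ ⟨β, h⟩
  exact h1 (orderOf_eq_one_iff.1 (Nat.eq_one_of_dvd_coprimes (hβ.pow_right k) dvd_rfl
    (orderOf_dvd_of_pow_eq_one (congrArg Subtype.val hk))))

/-- A `p'`-automorphism of the system gives a saturated subsystem that is not inner. -/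
theorem exists_autSys_sub [Finite S] {p : ℕ} [Fact p.Prime] (hS : IsPGroup p S) {F : FusionSystem S}
    (hQ : Q ≤ S) {β : MulAut Q} (hβF : β ∈ F.autGroup Q) (hβ : (orderOf β).Coprime p) (h1 : β ≠ 1) :
    let E := autSys Q (Cfsg.Inn Q ⊔ Subgroup.zpowers β) le_sup_left
    E.IsSaturated p ∧ E.IsSubsystemOf F ∧ ¬ ∀ P : Subgroup Ω, E.Hom P = (Cfsg.innerFusionSystem Q).Hom P := by
  intro E
  have := finite_of_le hQ
  refine ⟨isSaturated_autSys (hS.to_le hQ) (isSylowIn_inn_sup_zpowers (hS.to_le hQ) β hβ),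
    autSys_isSubsystemOf hQ (sup_le (inn_le_autGroup F hQ) (Subgroup.zpowers_le.2 hβF)), fun h => ?_⟩
  have hm : Q.subtype.comp β.toMonoidHom ∈ E.Hom Q :=
    ⟨le_rfl, β, Subgroup.mem_sup_right (Subgroup.mem_zpowers β), fun x => (autFn_apply β x.2).symm⟩
  rw [h Q] at hm
  obtain ⟨-, g, hg, e⟩ := hm
  exact not_mem_inn (hS.to_le hQ) hβ h1 ⟨⟨g, hg⟩, MulEquiv.ext fun x => Subtype.ext (e x).symm⟩

end Cfsg.Agent.FusionSparse
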